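import Cfsg.Agent.Lib.Ternary.Basic
import Cfsg.Agent.Lib.SmallCodes.Monomial

/-!
The monomial automorphisms of the ternary code of length 12 and its hexad system.
-/

set_option autoImplicit false
set_option maxRecDepth 20000

namespace CfsgLib.Ternary

open Cfsg CfsgLib.SmallCodes
open scoped Pointwise

/-- the position with a given number -/
def pt (i : Fin 12) : ArrayPt := (⟨i.val / 3, by omega⟩, ((i.val % 3 : ℕ) : ZMod 3))

theorem pt_checks : (∀ i : Fin 12, idx (pt i) = i.val) ∧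
    ∀ p : ArrayPt, pt ⟨idx p, idx_lt p⟩ = p := by decide +kernel

/-- numbering of the positions -/
def idxE : ArrayPt ≃ Fin 12 where
  toFun p := ⟨idx p, idx_lt p⟩
  invFun := pt
  left_inv := pt_checks.2
  right_inv i := Fin.ext (pt_checks.1 i)

/-- witness: images, inverse images, signs -/
def wit : List (List (List ℕ × List ℕ × ℕ)) :=
  [[([0, 1, 2, 3, 4, 5, 6, 7, 8, 9, 10, 11], [0, 1, 2, 3, 4, 5, 6, 7, 8, 9, 10, 11], 0),
   ([1, 0, 2, 3, 4, 5, 11, 9, 10, 7, 8, 6], [1, 0, 2, 3, 4, 5, 11, 9, 10, 7, 8, 6], 0),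
   ([1, 2, 0, 3, 4, 5, 7, 8, 6, 11, 9, 10], [2, 0, 1, 3, 4, 5, 8, 6, 7, 10, 11, 9], 0),
   ([1, 2, 3, 0, 4, 5, 8, 7, 9, 10, 6, 11], [3, 0, 1, 2, 4, 5, 10, 7, 6, 8, 9, 11], 630),
   ([1, 2, 3, 4, 0, 5, 6, 10, 11, 7, 8, 9], [4, 0, 1, 2, 3, 5, 6, 9, 10, 11, 7, 8], 630),
   ([1, 2, 3, 4, 5, 0, 7, 9, 8, 6, 11, 10], [5, 0, 1, 2, 3, 4, 9, 6, 8, 7, 11, 10], 630),
   ([1, 2, 3, 4, 7, 6, 0, 8, 10, 5, 9, 11], [6, 0, 1, 2, 3, 9, 5, 4, 7, 10, 8, 11], 634),
   ([1, 2, 3, 4, 9, 10, 11, 0, 7, 8, 6, 5], [7, 0, 1, 2, 3, 11, 10, 8, 9, 4, 5, 6], 636),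
   ([1, 2, 3, 4, 8, 11, 9, 6, 0, 10, 5, 7], [8, 0, 1, 2, 3, 10, 7, 11, 4, 6, 9, 5], 624),
   ([1, 2, 3, 4, 6, 7, 5, 11, 9, 0, 10, 8], [9, 0, 1, 2, 3, 6, 4, 5, 11, 8, 10, 7], 634),
   ([1, 2, 3, 4, 11, 8, 10, 7, 5, 9, 0, 6], [10, 0, 1, 2, 3, 8, 11, 7, 5, 9, 6, 4], 624),
   ([1, 2, 3, 4, 10, 9, 8, 5, 6, 11, 7, 0], [11, 0, 1, 2, 3, 7, 8, 10, 6, 5, 4, 9], 636)],
  [([0, 1, 2, 3, 4, 5, 6, 7, 8, 9, 10, 11], [0, 1, 2, 3, 4, 5, 6, 7, 8, 9, 10, 11], 0),
   ([0, 2, 1, 3, 4, 5, 9, 10, 11, 6, 7, 8], [0, 2, 1, 3, 4, 5, 9, 10, 11, 6, 7, 8], 0),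
   ([0, 2, 3, 1, 4, 5, 10, 9, 7, 8, 11, 6], [0, 3, 1, 2, 4, 5, 11, 8, 9, 7, 6, 10], 1866),
   ([0, 2, 3, 4, 1, 5, 11, 8, 6, 9, 10, 7], [0, 4, 1, 2, 3, 5, 8, 11, 7, 9, 10, 6], 1866),
   ([0, 2, 3, 4, 5, 1, 9, 7, 10, 11, 6, 8], [0, 5, 1, 2, 3, 4, 10, 7, 11, 6, 8, 9], 1866),
   ([0, 2, 3, 4, 9, 11, 1, 10, 8, 5, 7, 6], [0, 6, 1, 2, 3, 9, 11, 10, 8, 4, 7, 5], 1862),
   ([0, 2, 3, 4, 7, 8, 6, 1, 9, 10, 11, 5], [0, 7, 1, 2, 3, 11, 6, 4, 5, 8, 9, 10], 2236),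
   ([0, 2, 3, 4, 10, 6, 7, 11, 1, 8, 5, 9], [0, 8, 1, 2, 3, 10, 5, 6, 9, 11, 4, 7], 2224),
   ([0, 2, 3, 4, 11, 9, 5, 6, 7, 1, 8, 10], [0, 9, 1, 2, 3, 6, 7, 8, 10, 5, 11, 4], 1862),
   ([0, 2, 3, 4, 6, 10, 8, 9, 5, 7, 1, 11], [0, 10, 1, 2, 3, 8, 4, 9, 6, 7, 5, 11], 2224),
   ([0, 2, 3, 4, 8, 7, 10, 5, 11, 6, 9, 1], [0, 11, 1, 2, 3, 7, 9, 5, 4, 10, 6, 8], 2236)],
  [([0, 1, 2, 3, 4, 5, 6, 7, 8, 9, 10, 11], [0, 1, 2, 3, 4, 5, 6, 7, 8, 9, 10, 11], 0),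
   ([0, 1, 3, 2, 4, 5, 7, 6, 10, 11, 8, 9], [0, 1, 3, 2, 4, 5, 7, 6, 10, 11, 8, 9], 2764),
   ([0, 1, 3, 4, 2, 5, 8, 11, 9, 6, 7, 10], [0, 1, 4, 2, 3, 5, 9, 10, 6, 8, 11, 7], 2764),
   ([0, 1, 3, 4, 5, 2, 6, 10, 7, 8, 9, 11], [0, 1, 5, 2, 3, 4, 6, 8, 9, 10, 7, 11], 2764),
   ([0, 1, 3, 4, 6, 8, 2, 7, 11, 5, 10, 9], [0, 1, 6, 2, 3, 9, 4, 7, 5, 11, 10, 8], 2758),
   ([0, 1, 3, 4, 10, 11, 9, 2, 6, 7, 8, 5], [0, 1, 7, 2, 3, 11, 8, 9, 10, 6, 4, 5], 1338),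
   ([0, 1, 3, 4, 7, 9, 10, 8, 2, 11, 5, 6], [0, 1, 8, 2, 3, 10, 11, 4, 7, 5, 6, 9], 1328),
   ([0, 1, 3, 4, 8, 6, 5, 9, 10, 2, 11, 7], [0, 1, 9, 2, 3, 6, 5, 11, 4, 7, 8, 10], 2758),
   ([0, 1, 3, 4, 9, 7, 11, 6, 5, 10, 2, 8], [0, 1, 10, 2, 3, 8, 7, 5, 11, 4, 9, 6], 1328),
   ([0, 1, 3, 4, 11, 10, 7, 5, 8, 9, 6, 2], [0, 1, 11, 2, 3, 7, 10, 6, 8, 9, 5, 4], 1338)],
  [([0, 1, 2, 3, 4, 5, 6, 7, 8, 9, 10, 11], [0, 1, 2, 3, 4, 5, 6, 7, 8, 9, 10, 11], 0),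
   ([0, 1, 2, 4, 3, 5, 10, 9, 11, 7, 6, 8], [0, 1, 2, 4, 3, 5, 10, 9, 11, 7, 6, 8], 0),
   ([0, 1, 2, 4, 5, 3, 7, 8, 6, 10, 11, 9], [0, 1, 2, 5, 3, 4, 8, 6, 7, 11, 9, 10], 0),
   ([0, 1, 2, 4, 7, 10, 3, 6, 9, 5, 8, 11], [0, 1, 2, 6, 3, 9, 7, 4, 10, 8, 5, 11], 6),
   ([0, 1, 2, 4, 8, 9, 11, 3, 7, 6, 10, 5], [0, 1, 2, 7, 3, 11, 9, 8, 4, 5, 10, 6], 4090),
   ([0, 1, 2, 4, 6, 11, 8, 10, 3, 9, 5, 7], [0, 1, 2, 8, 3, 10, 4, 11, 6, 9, 7, 5], 4092),
   ([0, 1, 2, 4, 10, 7, 5, 11, 8, 3, 9, 6], [0, 1, 2, 9, 3, 6, 11, 5, 8, 10, 4, 7], 6),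
   ([0, 1, 2, 4, 11, 6, 9, 7, 5, 8, 3, 10], [0, 1, 2, 10, 3, 8, 5, 7, 9, 6, 11, 4], 4092),
   ([0, 1, 2, 4, 9, 8, 6, 5, 10, 11, 7, 3], [0, 1, 2, 11, 3, 7, 6, 10, 5, 4, 8, 9], 4090)],
  [([0, 1, 2, 3, 4, 5, 6, 7, 8, 9, 10, 11], [0, 1, 2, 3, 4, 5, 6, 7, 8, 9, 10, 11], 0),
   ([0, 1, 2, 3, 5, 4, 9, 11, 10, 6, 8, 7], [0, 1, 2, 3, 5, 4, 9, 11, 10, 6, 8, 7], 0),
   ([0, 1, 2, 3, 9, 6, 4, 10, 7, 5, 11, 8], [0, 1, 2, 3, 6, 9, 5, 8, 11, 4, 7, 10], 6),
   ([0, 1, 2, 3, 11, 7, 8, 4, 9, 10, 6, 5], [0, 1, 2, 3, 7, 11, 10, 5, 6, 8, 9, 4], 4090),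
   ([0, 1, 2, 3, 10, 8, 11, 6, 4, 7, 5, 9], [0, 1, 2, 3, 8, 10, 7, 9, 5, 11, 4, 6], 4092),
   ([0, 1, 2, 3, 6, 9, 5, 8, 11, 4, 7, 10], [0, 1, 2, 3, 9, 6, 4, 10, 7, 5, 11, 8], 6),
   ([0, 1, 2, 3, 8, 10, 7, 9, 5, 11, 4, 6], [0, 1, 2, 3, 10, 8, 11, 6, 4, 7, 5, 9], 4092),
   ([0, 1, 2, 3, 7, 11, 10, 5, 6, 8, 9, 4], [0, 1, 2, 3, 11, 7, 8, 4, 9, 10, 6, 5], 4090)]]

/-- read a function from a list -/
def fn (l : List ℕ) (i : Fin 12) : Fin 12 := ⟨l.getD i.val 0 % 12, Nat.mod_lt _ (by norm_num)⟩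

/-- the sign at a position -/
def sgn (m : ℕ) (i : Fin 12) : ZMod 3 := if m.testBit i.val then 2 else 1

/-- the image of a generator word -/
def imgW (g : List ℕ) (m : ℕ) (j : Fin 6) (p : ArrayPt) : ZMod 3 :=
  sgn m (idxE p) * genWord j (pt (fn g (idxE p)))

/-- the checks on a witness -/
def okE (e : List ℕ × List ℕ × ℕ) : Bool :=
  decide (∀ i, fn e.2.1 (fn e.1 i) = i ∧ fn e.1 (fn e.2.1 i) = i) &&
    decide (∀ j, wordB (imgW e.2.1 e.2.2 j) = true)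

/-- the witness at a level -/
def ent (k x : Fin 12) : List ℕ × List ℕ × ℕ :=
  (wit.getD k.val []).getD (x.val - k.val) ([], [], 0)

theorem wit_check : ∀ k x : Fin 12, k.val < 5 → k.val ≤ x.val → okE (ent k x) = true ∧
    fn (ent k x).1 x = k ∧ ∀ i : Fin 12, i.val < k.val → fn (ent k x).1 i = i := by
  decide +kernel

theorem exists_good (k x : Fin 12) (hk : k.val < 5) (hx : k.val ≤ x.val) :
    ∃ g ∈ permPart ternaryGolayCode, idxE (g (pt x)) = k ∧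
      ∀ i : Fin 12, i.val < k.val → idxE (g (pt i)) = i := by
  obtain ⟨hok, h1, h2⟩ := wit_check k x hk hx
  generalize ent k x = e at hok h1 h2
  obtain ⟨f, g, m⟩ := e
  simp only [okE, Bool.and_eq_true, decide_eq_true_eq] at hok
  obtain ⟨hinv, hw⟩ := hok
  let π : Equiv.Perm ArrayPt :=
    { toFun := fun p => pt (fn f (idxE p))
      invFun := fun p => pt (fn g (idxE p))
      left_inv := fun p => by
        show pt (fn g (idxE (idxE.symm (fn f (idxE p))))) = p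
        rw [Equiv.apply_symm_apply, (hinv _).1]
        exact idxE.symm_apply_apply p
      right_inv := fun p => by
        show pt (fn f (idxE (idxE.symm (fn g (idxE p))))) = p
        rw [Equiv.apply_symm_apply, (hinv _).2]
        exact idxE.symm_apply_apply p }
  have hne : ∀ i, sgn m i ≠ 0 := fun i => by
    unfold sgn
    split <;> decide
  refine ⟨π, ⟨fun p => Units.mk0 _ (hne (idxE p)), fun y hy => ?_⟩, ?_, fun i hi => ?_⟩
  · rw [eq_comb hy, comb_eq]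
    have key : ∀ j, monomialMap π (fun p => Units.mk0 _ (hne (idxE p))) (genWord j) ∈ ternaryGolayCode :=
      fun j => mem_code.2 (hw j)
    have : monomialMap π (fun p => Units.mk0 _ (hne (idxE p))) (∑ j, y (info j) • genWord j) =
        ∑ j, y (info j) • monomialMap π (fun p => Units.mk0 _ (hne (idxE p))) (genWord j) := by
      funext p
      simp only [monomialMap, Finset.sum_apply, Pi.smul_apply, smul_eq_mul, Finset.mul_sum]
      exact Finset.sum_congr rfl fun j _ => by ring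
    rw [this]
    exact Submodule.sum_mem _ fun j _ => Submodule.smul_mem _ _ (key j)
  · show idxE (idxE.symm (fn f (idxE (idxE.symm x)))) = k
    simp [h1]
  · show idxE (idxE.symm (fn f (idxE (idxE.symm i)))) = i
    simp [h2 i hi]

/-- the hexads -/
abbrev hexads : Set (Finset ArrayPt) :=
  {h | ∃ x ∈ ternaryGolayCode, ternarySupport x = h ∧ h.card = 6}

theorem mem_setSystemAut {σ : Equiv.Perm ArrayPt} {B : Set (Finset ArrayPt)} :
    σ ∈ setSystemAut B ↔ ∀ s : Finset ArrayPt, s.image σ ∈ B ↔ s ∈ B :=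
  MulAction.mem_stabilizer_set

theorem image_hexad {σ : Equiv.Perm ArrayPt} (hσ : σ ∈ permPart ternaryGolayCode)
    {s : Finset ArrayPt} (hs : s ∈ hexads) : s.image σ ∈ hexads := by
  obtain ⟨c, hc⟩ := hσ
  obtain ⟨x, hx, rfl, h6⟩ := hs
  refine ⟨_, hc x hx, ?_, by rw [Finset.card_image_of_injective _ σ.injective, h6]⟩
  ext p
  simp only [ternarySupport, Finset.mem_filter, Finset.mem_univ, true_and, Finset.mem_image,
    monomialMap, ne_eq, mul_eq_zero, Units.ne_zero, false_or]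
  constructor
  · intro h
    exact ⟨σ.symm p, h, σ.apply_symm_apply p⟩
  · rintro ⟨q, hq, rfl⟩
    rwa [σ.symm_apply_apply]

theorem permPart_le : permPart ternaryGolayCode ≤ setSystemAut hexads := by
  intro σ hσ
  rw [mem_setSystemAut]
  refine fun s => ⟨fun h => ?_, image_hexad hσ⟩
  simpa [Finset.image_image] using image_hexad (inv_mem hσ) h

/-- hexad test on lists of numbers -/
def hexL (L : List (Fin 12)) : Bool := hexMasks.contains ((L.map fun i : Fin 12 => 2 ^ i.val).sum)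

theorem mem_hexads_iff (s : Finset ArrayPt) : s ∈ hexads ↔ mask s ∈ hexMasks := by
  rw [show hexads = ((hexMasks.map unmask).toFinset : Set (Finset ArrayPt)) from hexads_eq,
    Finset.mem_coe, List.mem_toFinset, List.mem_map]
  refine ⟨fun ⟨m, hm, e⟩ => ?_, fun h => ⟨_, h, unmask_mask s⟩⟩
  have h6 := List.all_eq_true.1 hexad_checks.2.2.1 m hm
  rw [decide_eq_true_eq] at h6
  rw [← e, h6.2]
  exact hm

theorem hexL_iff {L : List (Fin 12)} (hL : L.Nodup) :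
    hexL L = true ↔ (L.map pt).toFinset ∈ hexads := by
  rw [mem_hexads_iff, mask, List.sum_toFinset _ (show (L.map pt).Nodup from hL.map idxE.symm.injective), hexL,
    List.contains_iff_mem, List.map_map]
  simp only [Function.comp_def, pt_checks.1]

theorem hexL_map {σ : Equiv.Perm ArrayPt} (hσ : σ ∈ setSystemAut hexads) {L : List (Fin 12)}
    (hL : L.Nodup) (h : hexL L = true) : hexL (L.map (idxE.permCongr σ)) = true := by
  rw [hexL_iff (hL.map (Equiv.injective _))]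
  have := (mem_setSystemAut.1 hσ _).2 ((hexL_iff hL).1 h)
  convert this using 1
  ext p
  simp [Equiv.permCongr_apply, show ∀ i, idxE.symm i = pt i from fun _ => rfl,
    show ∀ q, pt (idxE q) = q from idxE.symm_apply_apply]

/-- four-element sublists of the first six -/
def fours : List (List (Fin 12)) := [[0, 1, 2, 3], [0, 1, 2, 4], [0, 1, 2, 5], [0, 1, 3, 4], [0, 1, 3, 5], [0, 1, 4, 5], [0, 2, 3, 4], [0, 2, 3, 5], [0, 2, 4, 5], [0, 3, 4, 5], [1, 2, 3, 4], [1, 2, 3, 5], [1, 2, 4, 5], [1, 3, 4, 5], [2, 3, 4, 5]]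

theorem six_check : ∀ x : Fin 12, 5 ≤ x.val → hexL [0, 1, 2, 3, 4, x] = true → x = 5 := by decide +kernel

theorem fours_check : fours.all (fun T => decide (T.Nodup ∧ ∀ i ∈ T, i.val < 6)) = true := by decide +kernel

theorem edge_check : ∀ p q r s : Fin 12, 6 ≤ p.val → 6 ≤ q.val → 6 ≤ r.val → 6 ≤ s.val →
    p ≠ q → r ≠ s → fours.all (fun T => !hexL (T ++ [p, q]) || hexL (T ++ [r, s])) = true →
    r = p ∨ r = q := by decide +kernel

theorem two_others : ∀ p : Fin 12, ∃ q₁ q₂ : Fin 12,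
    6 ≤ q₁.val ∧ 6 ≤ q₂.val ∧ p ≠ q₁ ∧ p ≠ q₂ ∧ q₁ ≠ q₂ := by decide +kernel

theorem eq_one_of_fix {σ : Equiv.Perm ArrayPt} (hσ : σ ∈ setSystemAut hexads)
    (h : ∀ i : Fin 12, i.val < 5 → idxE.permCongr σ i = i) : σ = 1 := by
  obtain ⟨τ, hτ⟩ : ∃ τ, τ = idxE.permCongr σ := ⟨_, rfl⟩
  rw [← hτ] at h
  have hmap : ∀ L : List (Fin 12), L.Nodup → hexL L = true → hexL (L.map τ) = true :=
    fun L hL hh => hτ ▸ hexL_map hσ hL hh
  have h5 : τ 5 = 5 := by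
    have := hmap [0, 1, 2, 3, 4, 5] (by decide) (by decide +kernel)
    simp only [List.map, h 0 (by decide), h 1 (by decide), h 2 (by decide), h 3 (by decide),
      h 4 (by decide)] at this
    refine six_check _ ?_ this
    by_contra hlt
    have := τ.injective (h (τ 5) (by omega))
    rw [this] at hlt
    exact hlt le_rfl
  have h6 : ∀ i : Fin 12, i.val < 6 → τ i = i := fun i hi => by
    rcases lt_or_eq_of_le (Nat.le_of_lt_succ hi) with hi | hi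
    · exact h i hi
    · rw [show i = 5 from Fin.ext hi, h5]
  have hhi : ∀ i : Fin 12, 6 ≤ i.val → 6 ≤ (τ i).val := fun i hi => by
    by_contra hlt
    have := τ.injective (h6 (τ i) (by omega))
    rw [this] at hlt
    exact hlt hi
  have edge : ∀ p q : Fin 12, 6 ≤ p.val → 6 ≤ q.val → p ≠ q → τ p = p ∨ τ p = q := by
    intro p q hp hq hpq
    refine edge_check p q _ _ hp hq (hhi p hp) (hhi q hq) hpq (τ.injective.ne hpq) ?_
    rw [List.all_eq_true]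
    intro T hT
    have hT' := List.all_eq_true.1 fours_check T hT
    rw [decide_eq_true_eq] at hT'
    cases hh : hexL (T ++ [p, q])
    · rfl
    · have hnd : (T ++ [p, q]).Nodup := List.nodup_append'.2 ⟨hT'.1, by simp [hpq], fun i hi hi' => by
        have := hT'.2 i hi
        simp only [List.mem_cons, List.not_mem_nil, or_false] at hi'
        rcases hi' with rfl | rfl <;> omega⟩
      have := hmap _ hnd hh
      rw [List.map_append, List.map_congr_left (g := id) fun i hi => h6 i (hT'.2 i hi),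
        List.map_id] at this
      simpa using this
  have hall : ∀ i, τ i = i := fun i => by
    by_cases hi : i.val < 6
    · exact h6 i hi
    · obtain ⟨q₁, q₂, hq₁, hq₂, h₁, h₂, h₁₂⟩ := two_others i
      rcases edge i q₁ (by omega) hq₁ h₁ with e | e
      · exact e
      rcases edge i q₂ (by omega) hq₂ h₂ with e' | e'
      · exact e'
      exact absurd (e.symm.trans e') h₁₂
  ext p : 1
  have := hall (idxE p)
  rw [hτ, Equiv.permCongr_apply, Equiv.symm_apply_apply] at this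
  exact idxE.injective this

theorem exists_target (e : Fin 5 ↪ Fin 12) :
    ∀ k : ℕ, k ≤ 5 → ∃ g ∈ permPart ternaryGolayCode, ∀ i : Fin 5, i.val < k →
      idxE (g (pt (e i))) = i.castLE (by norm_num) := by
  intro k
  induction k with
  | zero => exact fun _ => ⟨1, one_mem _, fun i hi => absurd hi (by omega)⟩
  | succ k ih =>
    intro hk
    obtain ⟨g, hg, hgi⟩ := ih (by omega)
    obtain ⟨i₀, hi₀⟩ : ∃ i₀ : Fin 5, i₀.val = k := ⟨⟨k, hk⟩, rfl⟩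
    have hx : k ≤ (idxE (g (pt (e i₀)))).val := by
      by_contra hlt
      have hlt' : (idxE (g (pt (e i₀)))).val < 5 := by omega
      have := hgi ⟨_, hlt'⟩ (by simp only; omega)
      rw [show (Fin.castLE _ ⟨_, hlt'⟩ : Fin 12) = idxE (g (pt (e i₀))) from Fin.ext rfl] at this
      have heq := e.injective (idxE.symm.injective (g.injective (idxE.injective this)))
      have := congrArg Fin.val heq
      simp only at this
      omega
    obtain ⟨h, hh, hhx, hhi⟩ := exists_good (i₀.castLE (by norm_num)) _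
      (by simp) (by simpa [hi₀] using hx)
    refine ⟨h * g, mul_mem hh hg, fun i hi => ?_⟩
    rw [Equiv.Perm.mul_apply]
    rcases lt_or_eq_of_le (Nat.le_of_lt_succ hi) with hi | hi
    · have e₁ := hhi (i.castLE (by norm_num)) (by simpa [hi₀] using hi)
      rw [← hgi i hi, show pt (idxE (g (pt (e i)))) = g (pt (e i)) from
        idxE.symm_apply_apply _, hgi i hi] at e₁
      exact e₁
    · obtain rfl : i = i₀ := Fin.ext (hi.trans hi₀.symm)
      rw [show pt (idxE (g (pt (e i)))) = g (pt (e i)) from idxE.symm_apply_apply _] at hhx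
      exact hhx

/-- the images of the first five points -/
def five (σ : Equiv.Perm ArrayPt) : Fin 5 ↪ Fin 12 :=
  (Fin.castLEEmb (by norm_num)).trans (idxE.permCongr σ).toEmbedding

theorem five_inj {σ τ : Equiv.Perm ArrayPt} (hσ : σ ∈ setSystemAut hexads)
    (hτ : τ ∈ setSystemAut hexads) (h : five σ = five τ) : σ = τ := by
  have := eq_one_of_fix (mul_mem (inv_mem hτ) hσ) fun i hi => by
    have e := DFunLike.congr_fun h ⟨i.val, hi⟩
    simp only [five, Function.Embedding.trans_apply, Equiv.coe_toEmbedding,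
      Equiv.permCongr_apply] at e
    have e' : σ (idxE.symm i) = τ (idxE.symm i) := idxE.injective e
    simp [Equiv.permCongr_apply, e']
  exact (inv_mul_eq_one.1 this).symm

theorem five_surj (e : Fin 5 ↪ Fin 12) : ∃ σ ∈ permPart ternaryGolayCode, five σ = e := by
  obtain ⟨g, hg, h⟩ := exists_target e 5 le_rfl
  refine ⟨g⁻¹, inv_mem hg, DFunLike.ext _ _ fun i => ?_⟩
  simp only [five, Function.Embedding.trans_apply, Equiv.coe_toEmbedding, Equiv.permCongr_apply]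
  rw [show Fin.castLEEmb (by norm_num : 5 ≤ 12) i = i.castLE (by norm_num) from rfl,
    ← h i i.isLt, Equiv.symm_apply_apply, Equiv.Perm.inv_def, Equiv.symm_apply_apply]
  exact idxE.apply_symm_apply _

theorem permPart_eq : permPart ternaryGolayCode = setSystemAut hexads := by
  refine le_antisymm permPart_le fun σ hσ => ?_
  obtain ⟨τ, hτ, e⟩ := five_surj (five σ)
  exact five_inj (permPart_le hτ) hσ e ▸ hτ

/-- The automorphism group of the hexad system has order 95040. -/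
theorem natCard_aut : Nat.card (setSystemAut hexads) = 95040 := by
  rw [Nat.card_eq_of_bijective (fun σ : setSystemAut hexads => five σ.1)
    ⟨fun σ τ h => Subtype.ext (five_inj σ.2 τ.2 h), fun e => by
      obtain ⟨σ, hσ, h⟩ := five_surj e
      exact ⟨⟨σ, permPart_le hσ⟩, h⟩⟩, Nat.card_eq_fintype_card, Fintype.card_embedding_eq,
    Fintype.card_fin, Fintype.card_fin]
  rfl

/-- The monomial automorphisms of the ternary code. -/
theorem monomial_automorphisms :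
    Nat.card {f : Equiv.Perm ArrayPt × (ArrayPt → (ZMod 3)ˣ) //
      Good ternaryGolayCode f.1 f.2} = 190080 ∧
    {σ : Equiv.Perm ArrayPt | ∃ c, Good ternaryGolayCode σ c} =
      (setSystemAut hexads : Set (Equiv.Perm ArrayPt)) := by
  refine ⟨?_, ?_⟩
  · rw [natCard_monomial fun c hc i j => (kernel_const hc i).trans (kernel_const hc j).symm,
      permPart_eq, natCard_aut, Nat.card_units, Nat.card_zmod]
  · rw [← permPart_eq]
    rfl

end CfsgLib.Ternary
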