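import Cfsg.Prelude.Def_SporadicCombinatorics
import Cfsg.Prelude.Def_Sporadic_a

/-!
The ternary code of length 12: a generator matrix, weights, the hexads.
-/

set_option autoImplicit false
set_option maxRecDepth 20000

namespace CfsgLib.Ternary

open Cfsg

/-- positions of the array as numbers below 12 -/
def idx (p : ArrayPt) : ℕ := 3 * p.1.val + p.2.val

/-- generator rows, in reduced form on the six information positions -/
def genRows : List (List (ZMod 3)) := [[1, 0, 0, 0, 0, 1, 0, 0, 1, 1, 1, 2], [0, 1, 0, 0, 0, 1, 0, 2, 2, 2, 0, 2], [0, 0, 1, 0, 0, 1, 0, 1, 0, 2, 1, 1], [0, 0, 0, 1, 0, 2, 0, 2, 1, 2, 1, 0], [0, 0, 0, 0, 1, 2, 0, 1, 2, 0, 1, 2], [0, 0, 0, 0, 0, 0, 1, 1, 1, 2, 2, 2]]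

/-- the generators as words -/
def genWord (j : Fin 6) : ArrayPt → ZMod 3 := fun p => (genRows.getD j.val []).getD (idx p) 0

/-- the information positions -/
def info : Fin 6 → ArrayPt := ![(0, 0), (0, 1), (0, 2), (1, 0), (1, 1), (2, 0)]

/-- the other six positions -/
def other : Fin 6 → ArrayPt := ![(1, 2), (2, 1), (2, 2), (3, 0), (3, 1), (3, 2)]

/-- the combination with given coefficients -/
def comb (a : Fin 6 → ZMod 3) : ArrayPt → ZMod 3 := fun p => ∑ j, a j * genWord j p

/-- the coefficient vector with a given number -/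
def coef (n : ℕ) : Fin 6 → ZMod 3 := fun j => ((n / 3 ^ j.val % 3 : ℕ) : ZMod 3)

theorem comb_eq (a : Fin 6 → ZMod 3) : comb a = ∑ j, a j • genWord j := by
  funext p; simp [comb, Finset.sum_apply]

theorem vec6_all {P : (Fin 6 → ZMod 3) → Prop} (h : ∀ u v w x y z : ZMod 3, P ![u, v, w, x, y, z])
    (a : Fin 6 → ZMod 3) : P a := by
  have := h (a 0) (a 1) (a 2) (a 3) (a 4) (a 5)
  rwa [show ![a 0, a 1, a 2, a 3, a 4, a 5] = a by funext i; fin_cases i <;> rfl] at this

theorem exists_coef : ∀ a : Fin 6 → ZMod 3, ∃ n : Fin 729, coef n.val = a := by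
  refine vec6_all fun u v w x y z => ⟨⟨u.val + 3 * v.val + 9 * w.val + 27 * x.val + 81 * y.val + 243 * z.val, ?_⟩, ?_⟩
  · have := ZMod.val_lt u; have := ZMod.val_lt v; have := ZMod.val_lt w
    have := ZMod.val_lt x; have := ZMod.val_lt y; have := ZMod.val_lt z
    omega
  · revert u v w x y z; decide +kernel

/-- membership in the tetracode -/
theorem mem_tetra {t : Fin 4 → ZMod 3} :
    t ∈ tetracode ↔ ∃ a b : ZMod 3, a • ![0, 1, 1, 1] + b • ![1, 0, 1, 2] = t := Submodule.mem_span_pair

/-- a decidable form of membership -/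
def wordB (x : ArrayPt → ZMod 3) : Bool :=
  decide (∃ s : ZMod 3, (∀ i : Fin 4, ∑ r : ZMod 3, x (i, r) = -s) ∧
    ∀ a b : ZMod 3, ∑ i : Fin 4, x (i, a * (![0, 1, 1, 1] : Fin 4 → ZMod 3) i + b * (![1, 0, 1, 2] : Fin 4 → ZMod 3) i) = s)

theorem mem_code {x : ArrayPt → ZMod 3} : x ∈ ternaryGolayCode ↔ wordB x = true := by
  rw [wordB, decide_eq_true_iff]
  show IsTernaryGolayWord x ↔ _
  refine exists_congr fun s => and_congr_right fun _ => ⟨fun h a b => ?_, fun h t ht => ?_⟩
  · exact h _ (mem_tetra.2 ⟨a, b, rfl⟩)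
  · obtain ⟨a, b, rfl⟩ := mem_tetra.1 ht
    exact h a b

theorem gens_mem : ∀ j, wordB (genWord j) = true := by decide +kernel

theorem comb_mem (a : Fin 6 → ZMod 3) : comb a ∈ ternaryGolayCode := by
  rw [comb_eq]
  exact Submodule.sum_mem _ fun j _ => Submodule.smul_mem _ _ (mem_code.2 (gens_mem j))

theorem gen_info : ∀ i j, genWord j (info i) = if i = j then 1 else 0 := by decide +kernel

theorem comb_info (a : Fin 6 → ZMod 3) (i : Fin 6) : comb a (info i) = a i := by
  simp [comb, gen_info]

/-- a word vanishing on the information positions -/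
def tail (u : Fin 6 → ZMod 3) : ArrayPt → ZMod 3 :=
  fun p => if idx p = 5 then u 0 else if idx p = 7 then u 1 else if idx p = 8 then u 2
    else if idx p = 9 then u 3 else if idx p = 10 then u 4 else if idx p = 11 then u 5 else 0

theorem tail_zero : ∀ u : Fin 6 → ZMod 3, wordB (tail u) = true → u = 0 := by
  refine vec6_all ?_
  decide +kernel

theorem eq_comb {x : ArrayPt → ZMod 3} (hx : x ∈ ternaryGolayCode) : x = comb fun j => x (info j) := by
  set y := x - comb fun j => x (info j) with hy
  have hy0 : ∀ i, y (info i) = 0 := fun i => by simp [hy, comb_info]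
  have ht : tail (fun j => y (other j)) = y := by
    funext ⟨i, r⟩
    fin_cases i <;> fin_cases r
    all_goals first
      | rfl
      | exact (hy0 0).symm
      | exact (hy0 1).symm
      | exact (hy0 2).symm
      | exact (hy0 3).symm
      | exact (hy0 4).symm
      | exact (hy0 5).symm
  have h0 := tail_zero _ (by rw [ht]; exact mem_code.1 (Submodule.sub_mem _ hx (comb_mem _)))
  rw [h0] at ht
  have : y = 0 := by rw [← ht]; funext p; simp [tail]
  exact sub_eq_zero.1 this

theorem comb_inj {a b : Fin 6 → ZMod 3} (h : comb a = comb b) : a = b :=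
  funext fun i => by rw [← comb_info a i, h, comb_info]

/-- the word with a given number -/
def word (n : Fin 729) : ArrayPt → ZMod 3 := comb (coef n.val)

theorem coef_inj : ∀ n m : Fin 729, coef n.val = coef m.val → n = m := by
  intro n m h
  have key : ∀ n : Fin 729, (coef n.val 0).val + 3 * (coef n.val 1).val + 9 * (coef n.val 2).val +
      27 * (coef n.val 3).val + 81 * (coef n.val 4).val + 243 * (coef n.val 5).val = n.val := by decide +kernel
  exact Fin.ext (by rw [← key n, ← key m, h])

theorem word_inj : Function.Injective word := fun n m h => coef_inj n m (comb_inj h)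

theorem word_mem (n : Fin 729) : word n ∈ ternaryGolayCode := comb_mem _

theorem exists_word {x : ArrayPt → ZMod 3} (hx : x ∈ ternaryGolayCode) : ∃ n, word n = x := by
  obtain ⟨n, hn⟩ := exists_coef fun j => x (info j)
  exact ⟨n, by rw [word, hn, ← eq_comb hx]⟩

theorem card_code : Nat.card ↥ternaryGolayCode = 729 := by
  rw [← Nat.card_congr (Equiv.ofBijective (fun n => (⟨word n, word_mem n⟩ : ↥ternaryGolayCode))
    ⟨fun n m h => word_inj (congrArg Subtype.val h), fun x => by
      obtain ⟨n, hn⟩ := exists_word x.2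
      exact ⟨n, Subtype.ext hn⟩⟩), Nat.card_fin]

theorem ncard_weight (k : ℕ) :
    {x : ArrayPt → ZMod 3 | x ∈ ternaryGolayCode ∧ (ternarySupport x).card = k}.ncard =
      (Finset.univ.filter fun n => (ternarySupport (word n)).card = k).card := by
  rw [← Finset.card_image_of_injective _ word_inj, ← Set.ncard_coe_finset]
  congr 1
  ext x
  simp only [Set.mem_ofPred_eq, Finset.coe_image, Finset.coe_filter, Finset.mem_univ, true_and, Set.mem_image]
  constructor
  · rintro ⟨hx, hk⟩
    obtain ⟨n, rfl⟩ := exists_word hx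
    exact ⟨n, hk, rfl⟩
  · rintro ⟨n, hk, rfl⟩
    exact ⟨word_mem n, hk⟩

theorem weights_checks : (∀ n : Fin 729, (ternarySupport (word n)).card ∈ [0, 6, 9, 12] ∧
    ((ternarySupport (word n)).card = 0 → n.val = 0)) ∧
    (Finset.univ.filter fun n => (ternarySupport (word n)).card = 6).card = 264 ∧
    (Finset.univ.filter fun n => (ternarySupport (word n)).card = 9).card = 440 ∧
    (Finset.univ.filter fun n => (ternarySupport (word n)).card = 12).card = 24 := by decide +kernel

theorem weight_cases {x : ArrayPt → ZMod 3} (hx : x ∈ ternaryGolayCode) (hne : x ≠ 0) :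
    (ternarySupport x).card = 6 ∨ (ternarySupport x).card = 9 ∨ (ternarySupport x).card = 12 := by
  obtain ⟨n, rfl⟩ := exists_word hx
  have h := weights_checks.1 n
  simp only [List.mem_cons, List.not_mem_nil, or_false] at h
  refine h.1.resolve_left fun h0 => hne ?_
  funext p
  by_contra hp
  exact Finset.card_ne_zero_of_mem (show p ∈ ternarySupport (word n) from
    Finset.mem_filter.2 ⟨Finset.mem_univ _, hp⟩) h0

theorem gens_orth : ∀ i j, ∑ p, genWord i p * genWord j p = 0 := by decide +kernel

theorem self_orth {x y : ArrayPt → ZMod 3} (hx : x ∈ ternaryGolayCode) (hy : y ∈ ternaryGolayCode) :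
    ∑ p, x p * y p = 0 := by
  suffices H : ∀ a b : Fin 6 → ZMod 3, ∑ p, comb a p * comb b p = 0 by
    have := H (fun j => x (info j)) (fun j => y (info j))
    rwa [← eq_comb hx, ← eq_comb hy] at this
  intro a b
  calc ∑ p, comb a p * comb b p
      = ∑ p, ∑ i, ∑ j, a i * b j * (genWord i p * genWord j p) := Finset.sum_congr rfl fun p _ => by
        rw [comb, comb, Finset.sum_mul_sum]
        exact Finset.sum_congr rfl fun i _ => Finset.sum_congr rfl fun j _ => mul_mul_mul_comm ..
    _ = ∑ i, ∑ j, a i * b j * ∑ p, genWord i p * genWord j p := by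
        rw [Finset.sum_comm]
        refine Finset.sum_congr rfl fun i _ => ?_
        rw [Finset.sum_comm]
        exact Finset.sum_congr rfl fun j _ => (Finset.mul_sum ..).symm
    _ = 0 := by simp [gens_orth]

theorem kernel_const {c : ArrayPt → (ZMod 3)ˣ}
    (h : ∀ x ∈ ternaryGolayCode, monomialMap 1 c x ∈ ternaryGolayCode) (p : ArrayPt) : c p = c (0, 0) := by
  have key : ∀ (j : Fin 6) (q : ArrayPt), genWord j q ≠ 0 → (c q : ZMod 3) = c (info j) := by
    intro j q hq
    have hm := eq_comb (h _ (mem_code.2 (gens_mem j)))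
    have := congrFun hm q
    simp only [comb, monomialMap, Equiv.Perm.one_symm, Equiv.Perm.coe_one, id_eq, gen_info, mul_ite, mul_one,
      mul_zero, ite_mul, zero_mul, Finset.sum_ite_eq', Finset.mem_univ, if_true] at this
    exact mul_right_cancel₀ hq this
  have h5 : ∀ j : Fin 6, j.val < 5 → (c (info j) : ZMod 3) = c (1, 2) := fun j hj =>
    (key j _ ((by decide +kernel : ∀ j : Fin 6, j.val < 5 → genWord j (1, 2) ≠ 0) j hj)).symm
  have h5' : (c (info 5) : ZMod 3) = c (1, 2) :=
    ((key 5 (2, 1) (by decide +kernel)).symm.trans (key 1 (2, 1) (by decide +kernel))).trans (h5 1 (by decide))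
  have hall : ∀ j, (c (info j) : ZMod 3) = c (1, 2) := fun j => by
    by_cases hj : j.val < 5
    · exact h5 j hj
    · rw [show j = 5 by omega]; exact h5'
  obtain ⟨j, hj⟩ := (by decide +kernel : ∀ p, ∃ j, genWord j p ≠ 0) p
  exact Units.ext ((key j p hj).trans ((hall j).trans (hall 0).symm))

/-- the support as a number below 4096 -/
def mask (s : Finset ArrayPt) : ℕ := ∑ p ∈ s, 2 ^ idx p

/-- the hexad masks -/
def hexMasks : List ℕ := [63, 222, 237, 243, 347, 366, 373, 413, 427, 438, 455, 504, 591, 630, 633, 667, 679, 700, 725, 746, 791, 813, 826, 860, 867, 910, 945, 969, 978, 996, 1117, 1127, 1146, 1175, 1198, 1209, 1227, 1268, 1295, 1331, 1340, 1366, 1385, 1434, 1445, 1484, 1489, 1506, 1566, 1579, 1589, 1619, 1644, 1677, 1714, 1734, 1752, 1761, 1817, 1830, 1861, 1866, 1904, 1923, 1940, 1960, 2135, 2155, 2172, 2191, 2229, 2234, 2265, 2278, 2334, 2343, 2361, 2381, 2418, 2451, 2476, 2506, 2516, 2529, 2589, 2606, 2611, 2650, 2661, 2710, 2729, 2755, 2764, 2800, 2827, 2868, 2886, 2897, 2920, 2949, 2968,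 2978, 3099, 3117, 3126, 3150, 3185, 3228, 3235, 3269, 3282, 3304, 3349, 3370, 3395, 3416, 3428, 3462, 3465, 3504, 3591, 3640, 3657, 3668, 3682, 3722, 3729, 3748, 3852, 3858, 3873, 4032]

/-- the positions in a mask -/
def unmask (m : ℕ) : Finset ArrayPt := Finset.univ.filter fun p => m.testBit (idx p)

theorem hexad_checks : (∀ n : Fin 729, (ternarySupport (word n)).card = 6 →
      mask (ternarySupport (word n)) ∈ hexMasks) ∧
    (hexMasks.all fun m => (List.range 729).any fun k =>
      decide (∃ h : k < 729, ternarySupport (word ⟨k, h⟩) = unmask m)) = true ∧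
    (hexMasks.all fun m => decide ((unmask m).card = 6 ∧ mask (unmask m) = m)) = true ∧
    hexMasks.Nodup ∧ hexMasks.length = 132 := by decide +kernel

theorem five_check : ∀ m < 4096, (unmask m).card = 5 →
    (hexMasks.countP fun h => h &&& m == m) = 1 := by decide +kernel

theorem idx_lt : ∀ p, idx p < 12 := by decide +kernel

theorem idx_inj : ∀ p q, idx p = idx q → p = q := by decide +kernel

theorem mask_eq (s : Finset ArrayPt) : mask s = ∑ i ∈ s.image idx, 2 ^ i := by
  rw [mask, Finset.sum_image fun p _ q _ h => idx_inj p q h]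

theorem unmask_mask (s : Finset ArrayPt) : unmask (mask s) = s := by
  ext p
  rw [unmask, Finset.mem_filter, mask_eq, ← Nat.mem_bitIndices, ← List.mem_toFinset,
    Finset.toFinset_bitIndices_sum_two_pow]
  constructor
  · rintro ⟨-, h⟩
    obtain ⟨q, hq, e⟩ := Finset.mem_image.1 h
    exact idx_inj q p e ▸ hq
  · exact fun h => ⟨Finset.mem_univ _, Finset.mem_image_of_mem _ h⟩

theorem mask_lt (s : Finset ArrayPt) : mask s < 4096 := by
  rw [mask_eq]
  exact Nat.geomSum_lt le_rfl fun i hi => by
    obtain ⟨p, -, rfl⟩ := Finset.mem_image.1 hi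
    exact idx_lt p

theorem subset_iff (s : Finset ArrayPt) (m : ℕ) : s ⊆ unmask m ↔ m &&& mask s = mask s := by
  constructor
  · intro h
    refine Nat.eq_of_testBit_eq fun i => ?_
    rw [Nat.testBit_and]
    cases hb : (mask s).testBit i
    · simp
    · rw [mask_eq, ← Nat.mem_bitIndices, ← List.mem_toFinset, Finset.toFinset_bitIndices_sum_two_pow] at hb
      obtain ⟨p, hp, rfl⟩ := Finset.mem_image.1 hb
      simpa [unmask] using h hp
  · intro h p hp
    have h1 : (mask s).testBit (idx p) = true := by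
      have := (unmask_mask s).symm ▸ hp
      simpa [unmask] using this
    rw [← h, Nat.testBit_and, Bool.and_eq_true] at h1
    simpa [unmask] using h1.1

theorem hexads_eq : {h : Finset ArrayPt | ∃ x ∈ ternaryGolayCode, ternarySupport x = h ∧ h.card = 6} =
    ((hexMasks.map unmask).toFinset : Set (Finset ArrayPt)) := by
  obtain ⟨h1, h2, h3, -, -⟩ := hexad_checks
  ext t
  simp only [Set.mem_ofPred_eq, List.coe_toFinset, List.mem_map]
  constructor
  · rintro ⟨x, hx, rfl, hc⟩
    obtain ⟨n, rfl⟩ := exists_word hx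
    exact ⟨_, h1 n hc, unmask_mask _⟩
  · rintro ⟨m, hm, rfl⟩
    have e := List.all_eq_true.1 h2 m hm
    simp only [List.any_eq_true, decide_eq_true_eq] at e
    obtain ⟨k, -, hk, hkm⟩ := e
    have h6 := List.all_eq_true.1 h3 m hm
    rw [decide_eq_true_eq] at h6
    exact ⟨_, word_mem ⟨k, hk⟩, hkm, h6.1⟩

theorem hexads_steiner :
    Cfsg.IsSteinerSystem 5 6 {h : Finset ArrayPt | ∃ x ∈ ternaryGolayCode, ternarySupport x = h ∧ h.card = 6} := by
  rw [hexads_eq]
  obtain ⟨-, -, h3, hnd, -⟩ := hexad_checks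
  refine ⟨fun b hb => ?_, fun s hs => ?_⟩
  · rw [Finset.mem_coe, List.mem_toFinset] at hb
    obtain ⟨m, hm, rfl⟩ := List.mem_map.1 hb
    have h6 := List.all_eq_true.1 h3 m hm
    rw [decide_eq_true_eq] at h6
    exact h6.1
  · have hc := five_check _ (mask_lt s) (by rw [unmask_mask]; exact hs)
    rw [List.countP_eq_length_filter, List.length_eq_one_iff] at hc
    obtain ⟨m, hm⟩ := hc
    have hmem : ∀ k, k ∈ hexMasks ∧ s ⊆ unmask k ↔ k = m := fun k => by
      have := List.mem_filter (p := fun h => h &&& mask s == mask s) (as := hexMasks) (x := k)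
      rw [hm, List.mem_singleton, beq_iff_eq] at this
      rw [subset_iff]
      exact this.symm
    refine ⟨unmask m, ⟨?_, ((hmem m).2 rfl).2⟩, fun b hb => ?_⟩
    · rw [Finset.mem_coe, List.mem_toFinset]
      exact List.mem_map_of_mem ((hmem m).2 rfl).1
    · obtain ⟨hb, hsb⟩ := hb
      rw [Finset.mem_coe, List.mem_toFinset] at hb
      obtain ⟨k, hk, rfl⟩ := List.mem_map.1 hb
      rw [(hmem k).1 ⟨hk, hsb⟩]

theorem hexads_ncard :
    {h : Finset ArrayPt | ∃ x ∈ ternaryGolayCode, ternarySupport x = h ∧ h.card = 6}.ncard = 132 := by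
  obtain ⟨-, -, h3, hnd, hlen⟩ := hexad_checks
  rw [hexads_eq, Set.ncard_coe_finset, List.toFinset_card_of_nodup, List.length_map, hlen]
  refine hnd.map_on fun a ha b hb e => ?_
  have ha' := List.all_eq_true.1 h3 a ha
  have hb' := List.all_eq_true.1 h3 b hb
  rw [decide_eq_true_eq] at ha' hb'
  rw [← ha'.2, e, hb'.2]

end CfsgLib.Ternary
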