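import Cfsg.Agent.Lib.Ternary.Aut

/-!
An explicit group of permutations of twelve points isomorphic to the automorphism group of the hexads.
-/

set_option autoImplicit false
set_option maxRecDepth 20000

namespace CfsgLib.Ternary.M12

open Cfsg CfsgLib.Ternary
open scoped Pointwise

/-- the generators -/
def gen : Fin 8 → Equiv.Perm (Fin 12) :=
  ![Equiv.swap 3 5 * Equiv.swap 3 4 * Equiv.swap 6 8 * Equiv.swap 6 7 * Equiv.swap 9 11 * Equiv.swap 9 10,
    Equiv.swap 3 9 * Equiv.swap 3 6 * Equiv.swap 4 10 * Equiv.swap 4 7 * Equiv.swap 5 11 * Equiv.swap 5 8,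
    Equiv.swap 4 9 * Equiv.swap 4 5 * Equiv.swap 4 6 * Equiv.swap 7 10 * Equiv.swap 7 11 * Equiv.swap 7 8,
    Equiv.swap 4 11 * Equiv.swap 4 5 * Equiv.swap 4 7 * Equiv.swap 6 8 * Equiv.swap 6 9 * Equiv.swap 6 10,
    Equiv.swap 4 8 * Equiv.swap 4 5 * Equiv.swap 4 10 * Equiv.swap 6 7 * Equiv.swap 6 9 * Equiv.swap 6 11,
    Equiv.swap 0 3 * Equiv.swap 6 7 * Equiv.swap 8 10 * Equiv.swap 9 11,
    Equiv.swap 0 1 * Equiv.swap 6 9 * Equiv.swap 7 10 * Equiv.swap 8 11,
    Equiv.swap 1 2 * Equiv.swap 6 11 * Equiv.swap 7 9 * Equiv.swap 8 10]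

/-- the first seven generators -/
def gen7 (i : Fin 7) : Equiv.Perm (Fin 12) := gen i.castSucc

/-- the whole group -/
def K12 : Subgroup (Equiv.Perm (Fin 12)) := Subgroup.closure (Set.range gen)

/-- the subgroup fixing the point two -/
def K11 : Subgroup (Equiv.Perm (Fin 12)) := Subgroup.closure (Set.range gen7)

/-- relabelling to the hexad numbering -/
def psi : Fin 12 ≃ Fin 12 where
  toFun := ![0, 1, 2, 3, 4, 5, 10, 11, 9, 8, 6, 7]
  invFun := ![0, 1, 2, 3, 4, 5, 10, 11, 9, 8, 6, 7]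
  left_inv := by decide +kernel
  right_inv := by decide +kernel

/-- relabelling to the array -/
def theta : Fin 12 ≃ ArrayPt := psi.trans idxE.symm

/-- witness words, five levels -/
def w12 : List (List (List (Fin 8))) := [[[], [6], [6, 7], [5], [5, 0, 0], [5, 0], [5, 1, 1], [5, 0, 3], [5, 1, 1, 0], [5, 1], [5, 1, 3], [5, 1, 0]], [[], [], [7], [5, 6, 5], [5, 6, 5, 0, 0], [5, 6, 5, 0], [6, 5, 1, 6], [5, 6, 5, 0, 3], [6, 5, 1, 6, 0], [5, 6, 5, 1], [5, 6, 5, 1, 3], [5, 6, 5, 1, 0]], [[], [], [], [5, 6, 7, 6, 5], [5, 6, 7, 6, 5, 0, 0], [5, 6, 7, 6, 5, 0], [7, 5, 6, 5, 1, 7, 0], [7, 5, 6, 5, 1, 7], [7, 6, 5, 1, 6, 7, 1], [5, 6, 7, 6, 5, 1], [7, 6, 5, 1, 6, 7, 0], [7, 6, 5, 1, 6, 7]], [[], [], [], [], [0, 0], [0], [1, 1], [0, 3], [1, 1, 0], [1], [1, 3], [1, 0]], [[], [], [], [], [], [2, 2], [3, 4], [4, 2], [4], [2], [2, 3], [3]]]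

/-- witness words fixing the point two, four levels -/
def w11 : List (List (List (Fin 7))) := [[[], [6], [], [5], [5, 0, 0], [5, 0], [5, 1, 1], [5, 0, 3], [5, 1, 1, 0], [5, 1], [5, 1, 3], [5, 1, 0]], [[], [], [], [5, 6, 5], [5, 6, 5, 0, 0], [5, 6, 5, 0], [6, 5, 1, 6], [5, 6, 5, 0, 3], [6, 5, 1, 6, 0], [5, 6, 5, 1], [5, 6, 5, 1, 3], [5, 6, 5, 1, 0]], [[], [], [], [], [0, 0], [0], [1, 1], [0, 3], [1, 1, 0], [1], [1, 3], [1, 0]], [[], [], [], [], [], [2, 2], [3, 4], [4, 2], [4], [2], [2, 3], [3]]]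

/-- the base points away from two -/
def o11 : Fin 4 → Fin 12 := ![0, 1, 3, 4]

theorem gens_aut : ∀ i : Fin 8, hexMasks.all (fun m =>
    hexMasks.contains (mask ((unmask m).image (theta.permCongr (gen i))))) = true := by decide +kernel

theorem w12_check : ∀ k : Fin 5, ∀ x : Fin 12, k.val ≤ x.val →
    (((w12.getD k.val []).getD x.val []).map gen).prod x = k.castLE (by norm_num) ∧
      ∀ i : Fin 5, i < k →
        (((w12.getD k.val []).getD x.val []).map gen).prod (i.castLE (by norm_num)) = i.castLE (by norm_num) := by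
  decide +kernel

theorem w11_check : ∀ k : Fin 4, ∀ x : Fin 12, x ≠ 2 → (∀ i : Fin 4, i < k → x ≠ o11 i) →
    (((w11.getD k.val []).getD x.val []).map gen7).prod x = o11 k ∧
      ∀ i : Fin 4, i < k → (((w11.getD k.val []).getD x.val []).map gen7).prod (o11 i) = o11 i := by
  decide +kernel

theorem gen7_fix : ∀ i, gen7 i 2 = 2 := by decide +kernel

theorem prod_mem {ι : Type*} (f : ι → Equiv.Perm (Fin 12)) (L : List ι) :
    (L.map f).prod ∈ Subgroup.closure (Set.range f) := by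
  refine Subgroup.list_prod_mem _ fun g hg => ?_
  obtain ⟨i, -, rfl⟩ := List.mem_map.1 hg
  exact Subgroup.subset_closure ⟨i, rfl⟩

/-- Chained one-point witnesses move any admissible tuple to the base. -/
theorem exists_to_base {m : ℕ} (K : Subgroup (Equiv.Perm (Fin 12))) (S : Set (Fin 12))
    (hS : ∀ g ∈ K, ∀ p ∈ S, g p = p) (o : Fin m → Fin 12)
    (hw : ∀ k x, x ∉ S → (∀ i, i < k → x ≠ o i) → ∃ g ∈ K, g x = o k ∧ ∀ i, i < k → g (o i) = o i)
    (e : Fin m → Fin 12) (he : Function.Injective e) (heS : ∀ i, e i ∉ S) :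
    ∀ k : ℕ, k ≤ m → ∃ g ∈ K, ∀ i : Fin m, i.val < k → g (e i) = o i := by
  intro k
  induction k with
  | zero => exact fun _ => ⟨1, one_mem _, fun i hi => absurd hi (by omega)⟩
  | succ k ih =>
    intro hk
    obtain ⟨g, hg, hgi⟩ := ih (by omega)
    obtain ⟨i₀, hi₀⟩ : ∃ i₀ : Fin m, i₀.val = k := ⟨⟨k, hk⟩, rfl⟩
    obtain ⟨h, hh, h1, h2⟩ := hw i₀ (g (e i₀))
      (fun hx => heS i₀ (by rwa [g.injective (hS g hg _ hx)] at hx))
      (fun i hi hx => by
        have hlt : i.val < k := hi₀ ▸ hi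
        have := congrArg Fin.val (he (g.injective (hx.trans (hgi i hlt).symm)))
        omega)
    refine ⟨h * g, mul_mem hh hg, fun i hi => ?_⟩
    rw [Equiv.Perm.mul_apply]
    rcases lt_or_eq_of_le (Nat.le_of_lt_succ hi) with hi | hi
    · rw [hgi i hi]
      exact h2 i (Fin.lt_def.2 (hi₀ ▸ hi))
    · rw [show i = i₀ from Fin.ext (hi.trans hi₀.symm)]
      exact h1

theorem to_base12 (e : Fin 5 ↪ Fin 12) : ∃ g ∈ K12, ∀ i : Fin 5, g (e i) = i.castLE (by norm_num) := by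
  obtain ⟨g, hg, h⟩ := exists_to_base K12 ∅ (fun _ _ p hp => absurd hp id)
    (fun i : Fin 5 => (i.castLE (by norm_num) : Fin 12)) (fun k x _ hx => by
      have hkx : k.val ≤ x.val := by
        by_contra hlt
        exact hx ⟨x.val, by omega⟩ (Fin.lt_def.2 (by simp only; omega)) (Fin.ext rfl)
      exact ⟨_, prod_mem gen _, w12_check k x hkx⟩) e e.injective (fun _ => id) 5 le_rfl
  exact ⟨g, hg, fun i => h i i.isLt⟩

theorem K11_fix {g : Equiv.Perm (Fin 12)} (hg : g ∈ K11) : g 2 = 2 := by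
  have : K11 ≤ MulAction.stabilizer (Equiv.Perm (Fin 12)) (2 : Fin 12) := by
    rw [K11, Subgroup.closure_le]
    rintro _ ⟨i, rfl⟩
    exact gen7_fix i
  exact this hg

theorem to_base11 (e : Fin 4 ↪ Fin 12) (he : ∀ i, e i ≠ 2) : ∃ g ∈ K11, ∀ i, g (e i) = o11 i := by
  obtain ⟨g, hg, h⟩ := exists_to_base K11 {2} (fun g hg p hp => by rw [Set.mem_singleton_iff.1 hp]; exact K11_fix hg)
    o11 (fun k x hx hlt => ⟨_, prod_mem gen7 _, w11_check k x hx hlt⟩) e e.injective he 4 le_rfl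
  exact ⟨g, hg, fun i => h i i.isLt⟩

theorem fix_five {h : Equiv.Perm ArrayPt} (hh : h ∈ setSystemAut hexads) (e : Fin 5 ↪ ArrayPt)
    (hfix : ∀ i, h (e i) = e i) : h = 1 := by
  obtain ⟨σ, hσ, he⟩ := five_surj (e.trans idxE.toEmbedding)
  refine mul_right_cancel (b := σ) ((five_inj (mul_mem hh (permPart_le hσ)) (permPart_le hσ) ?_).trans
    (one_mul σ).symm)
  refine DFunLike.ext _ _ fun i => ?_
  have e' := DFunLike.congr_fun he i
  simp only [five, Function.Embedding.trans_apply, Equiv.coe_toEmbedding, Equiv.permCongr_apply,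
    EmbeddingLike.apply_eq_iff_eq] at e'
  simp only [five, Function.Embedding.trans_apply, Equiv.coe_toEmbedding, Equiv.permCongr_apply,
    EmbeddingLike.apply_eq_iff_eq, Equiv.Perm.mul_apply, e', hfix]

theorem K12_le : K12 ≤ (setSystemAut hexads).comap theta.permCongrHom.toMonoidHom := by
  rw [K12, Subgroup.closure_le]
  rintro _ ⟨i, rfl⟩
  show theta.permCongr (gen i) ∈ setSystemAut hexads
  have hmap : ∀ s ∈ hexads, s.image (theta.permCongr (gen i)) ∈ hexads := by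
    intro s hs
    rw [mem_hexads_iff] at hs ⊢
    have := List.all_eq_true.1 (gens_aut i) _ hs
    rwa [List.contains_iff_mem, unmask_mask] at this
  rw [mem_setSystemAut]
  refine fun s => ⟨fun h => ?_, hmap s⟩
  obtain ⟨⟨t, ht⟩, e⟩ := (Finite.injective_iff_surjective
    (f := fun t : hexads => (⟨_, hmap t.1 t.2⟩ : hexads))).1
    (fun a b e => Subtype.ext (Finset.image_injective (Equiv.injective _) (congrArg Subtype.val e))) ⟨_, h⟩
  have := Finset.image_injective (Equiv.injective _) (congrArg Subtype.val e)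
  exact this ▸ ht

theorem sharp12 {g : Equiv.Perm (Fin 12)} (hg : g ∈ K12) (e : Fin 5 ↪ Fin 12)
    (h : ∀ i, g (e i) = e i) : g = 1 := by
  have := fix_five (K12_le hg) (e.trans theta.toEmbedding) fun i => by
    show theta.permCongr g (theta (e i)) = theta (e i)
    simp [Equiv.permCongr_apply, h i]
  exact theta.permCongrHom.injective (this.trans (map_one _).symm)

theorem pretransitive12 : MulAction.IsMultiplyPretransitive K12 (Fin 12) 5 := by
  refine ⟨fun x y => ?_⟩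
  obtain ⟨g, hg, hx⟩ := to_base12 x
  obtain ⟨h, hh, hy⟩ := to_base12 y
  refine ⟨⟨h⁻¹ * g, mul_mem (inv_mem hh) hg⟩, DFunLike.ext _ _ fun i => ?_⟩
  show h⁻¹ (g (x i)) = y i
  rw [hx, ← hy, Equiv.Perm.inv_def, Equiv.symm_apply_apply]

theorem stabilizer12 (y : Fin 5 ↪ Fin 12) : MulAction.stabilizer K12 y = ⊥ := by
  rw [Subgroup.eq_bot_iff_forall]
  rintro ⟨g, hg⟩ hfix
  exact Subtype.ext (sharp12 hg y fun i => DFunLike.congr_fun hfix i)

theorem natCard12 : Nat.card K12 = 95040 := by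
  have base : Fin 5 ↪ Fin 12 := Fin.castLEEmb (by norm_num)
  rw [Nat.card_eq_of_bijective (fun g : K12 => base.trans (g : Equiv.Perm (Fin 12)).toEmbedding)
    ⟨fun g h e => Subtype.ext (inv_mul_eq_one.1
      (sharp12 (mul_mem (inv_mem h.2) g.2) base fun i => by
        have e' : (g : Equiv.Perm (Fin 12)) (base i) = (h : Equiv.Perm (Fin 12)) (base i) := DFunLike.congr_fun e i
        rw [Equiv.Perm.mul_apply, e', Equiv.Perm.inv_def, Equiv.symm_apply_apply])).symm,
     fun y => by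
      obtain ⟨g, hg⟩ := pretransitive12.exists_smul_eq base y
      exact ⟨g, hg⟩⟩,
    Nat.card_eq_fintype_card, Fintype.card_embedding_eq, Fintype.card_fin, Fintype.card_fin]
  rfl

theorem K11_eq : K11 = K12 ⊓ MulAction.stabilizer (Equiv.Perm (Fin 12)) (2 : Fin 12) := by
  have hle : K11 ≤ K12 := Subgroup.closure_mono fun _ ⟨i, hi⟩ => ⟨i.castSucc, hi⟩
  refine le_antisymm (le_inf hle fun g hg => K11_fix hg) ?_
  rintro g ⟨hg, hg2⟩
  replace hg2 : g 2 = 2 := hg2
  obtain ⟨h, hh, hi⟩ := to_base11 ⟨fun i => g (o11 i), g.injective.comp (by decide)⟩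
    (fun i e => (by decide +kernel : ∀ i, o11 i ≠ 2) i (g.injective (e.trans hg2.symm)))
  have := sharp12 (mul_mem (hle hh) hg) ⟨![2, 0, 1, 3, 4], by decide⟩ fun i => by
    fin_cases i
    · show h (g 2) = 2
      rw [hg2, K11_fix hh]
    · exact hi 0
    · exact hi 1
    · exact hi 2
    · exact hi 3
  rw [show g = h⁻¹ by rw [← mul_right_inj h, this, mul_inv_cancel]]
  exact inv_mem hh

theorem natCard11 : Nat.card K11 = 7920 := by
  let fwd : K11 → {e : Fin 4 ↪ Fin 12 // ∀ i, e i ≠ 2} := fun g =>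
    ⟨⟨fun i => (g : Equiv.Perm (Fin 12)) (o11 i), (Equiv.injective _).comp (by decide)⟩,
      fun i e => (by decide +kernel : ∀ i, o11 i ≠ 2) i ((Equiv.injective _) (e.trans (K11_fix g.2).symm))⟩
  have hbij : Function.Bijective fwd := by
    refine ⟨fun g h e => Subtype.ext (inv_mul_eq_one.1 (sharp12
      (mul_mem (inv_mem ((K11_eq.le h.2).1)) ((K11_eq.le g.2).1)) ⟨![2, 0, 1, 3, 4], by decide⟩ ?_)).symm, ?_⟩
    · intro i
      have e' : ∀ j, (g : Equiv.Perm (Fin 12)) (o11 j) = (h : Equiv.Perm (Fin 12)) (o11 j) := fun j =>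
        DFunLike.congr_fun (congrArg Subtype.val e) j
      rw [Equiv.Perm.mul_apply, Equiv.Perm.inv_def, Equiv.symm_apply_eq]
      fin_cases i
      · exact (K11_fix g.2).trans (K11_fix h.2).symm
      · exact e' 0
      · exact e' 1
      · exact e' 2
      · exact e' 3
    · rintro ⟨e, he⟩
      obtain ⟨g, hg, hi⟩ := to_base11 e he
      refine ⟨⟨g⁻¹, inv_mem hg⟩, Subtype.ext (DFunLike.ext _ _ fun i => ?_)⟩
      show g⁻¹ (o11 i) = e i
      rw [← hi, Equiv.Perm.inv_def, Equiv.symm_apply_apply]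
  rw [Nat.card_eq_of_bijective fwd hbij, Nat.card_congr (show {e : Fin 4 ↪ Fin 12 // ∀ i, e i ≠ 2} ≃
      (Fin 4 ↪ {x : Fin 12 // x ≠ 2}) from Equiv.codRestrict (Fin 4) {x : Fin 12 | x ≠ 2}),
    Nat.card_eq_fintype_card, Fintype.card_embedding_eq, Fintype.card_fin,
    show Fintype.card {x : Fin 12 // x ≠ 2} = 11 by decide +kernel]
  rfl

end CfsgLib.Ternary.M12
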