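import Cfsg.Prelude.Def_Sporadic_a
import Mathlib

/-!
Intersection numbers of a Steiner system with parameters 5, 6, 12.
-/

set_option autoImplicit false

namespace CfsgLib.Ternary

open Finset

variable {α : Type*} [Fintype α] [DecidableEq α]

/-- blocks containing a set -/
def through (Bf : Finset (Finset α)) (s : Finset α) : Finset (Finset α) := Bf.filter fun c => s ⊆ c

/-- blocks meeting `b` in exactly `s` -/
def exactly (Bf : Finset (Finset α)) (b s : Finset α) : Finset (Finset α) := Bf.filter fun c => b ∩ c = s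

theorem through_step {Bf : Finset (Finset α)} (h6 : ∀ c ∈ Bf, c.card = 6) (s : Finset α) {l : ℕ}
    (h : ∀ x ∉ s, (through Bf (insert x s)).card = l) :
    (through Bf s).card * (6 - s.card) = (Fintype.card α - s.card) * l := by
  have key : ∑ c ∈ through Bf s, (c \ s).card = ∑ x ∈ sᶜ, (through Bf (insert x s)).card := by
    calc ∑ c ∈ through Bf s, (c \ s).card
        = ∑ c ∈ through Bf s, ∑ x ∈ sᶜ, (if x ∈ c then 1 else 0) := Finset.sum_congr rfl fun c _ => by
          rw [Finset.sum_boole, Nat.cast_id]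
          congr 1
          ext x; simp [and_comm]
      _ = ∑ x ∈ sᶜ, ∑ c ∈ through Bf s, (if x ∈ c then 1 else 0) := Finset.sum_comm
      _ = _ := Finset.sum_congr rfl fun x _ => by
          rw [Finset.sum_boole, Nat.cast_id]
          congr 1
          ext c; simp [through, Finset.insert_subset_iff]; tauto
  rw [Finset.sum_congr rfl (g := fun _ => 6 - s.card) fun c hc => by
      obtain ⟨hc1, hc2⟩ := Finset.mem_filter.1 hc
      rw [Finset.card_sdiff_of_subset hc2, h6 c hc1],
    Finset.sum_const, smul_eq_mul,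
    Finset.sum_congr rfl (g := fun _ => l) fun x hx => h x (Finset.mem_compl.1 hx),
    Finset.sum_const, smul_eq_mul, Finset.card_compl] at key
  exact key

/-- the number of blocks through a set of given size -/
def lam : ℕ → ℕ
  | 0 => 132 | 1 => 66 | 2 => 30 | 3 => 12 | 4 => 4 | _ => 1

theorem card_through (hα : Fintype.card α = 12) {Bf : Finset (Finset α)} (h6 : ∀ c ∈ Bf, c.card = 6)
    (h5 : ∀ s : Finset α, s.card = 5 → (through Bf s).card = 1) :
    ∀ k, ∀ s : Finset α, s.card + k = 5 → (through Bf s).card = lam s.card := by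
  intro k
  induction k with
  | zero => intro s hs; rw [h5 s (by omega), show s.card = 5 by omega]; rfl
  | succ k ih =>
    intro s hs
    have h := through_step h6 s (l := lam (s.card + 1)) fun x hx => by
      have := ih (insert x s) (by rw [Finset.card_insert_of_notMem hx]; omega)
      rwa [Finset.card_insert_of_notMem hx] at this
    rw [hα] at h
    obtain hc | hc | hc | hc | hc : s.card = 0 ∨ s.card = 1 ∨ s.card = 2 ∨ s.card = 3 ∨ s.card = 4 := by omega
    all_goals rw [hc] at h ⊢; simp only [lam] at h ⊢; omega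

theorem through_eq_sum {Bf : Finset (Finset α)} {b s : Finset α} (hs : s ⊆ b) :
    (through Bf s).card = ∑ v ∈ (b \ s).powerset, (exactly Bf b (s ∪ v)).card := by
  rw [Finset.card_eq_sum_card_fiberwise (f := fun c => (b ∩ c) \ s) (t := (b \ s).powerset) fun c _ =>
    Finset.mem_coe.2 (Finset.mem_powerset.2 (Finset.sdiff_subset_sdiff Finset.inter_subset_left le_rfl))]
  refine Finset.sum_congr rfl fun v hv => ?_
  rw [Finset.mem_powerset] at hv
  congr 1
  ext c
  simp only [through, exactly, Finset.mem_filter]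
  constructor
  · rintro ⟨⟨hc, hsc⟩, rfl⟩
    exact ⟨hc, (Finset.union_sdiff_of_subset (Finset.subset_inter hs hsc)).symm⟩
  · rintro ⟨hc, he⟩
    have hsc : s ⊆ c := fun x hx =>
      (Finset.mem_inter.1 (he.symm ▸ Finset.mem_union_left v hx : x ∈ b ∩ c)).2
    refine ⟨⟨hc, hsc⟩, ?_⟩
    rw [he, Finset.union_sdiff_cancel_left]
    exact (Finset.disjoint_of_subset_left hv Finset.sdiff_disjoint).symm

/-- the intersection numbers -/
def meetNum : ℕ → ℕ
  | 2 => 3 | 3 => 2 | 4 => 3 | 6 => 1 | 0 => 1 | _ => 0

theorem card_exactly (hα : Fintype.card α = 12) {Bf : Finset (Finset α)} (h6 : ∀ c ∈ Bf, c.card = 6)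
    (h5 : ∀ s : Finset α, s.card = 5 → (through Bf s).card = 1) {b : Finset α} (hb : b ∈ Bf) :
    ∀ k, ∀ s ⊆ b, (b \ s).card = k → (exactly Bf b s).card = meetNum s.card := by
  intro k
  induction k using Nat.strong_induction_on with
  | h k ih =>
    intro s hs hk
    have hbs : (b \ s).card = 6 - s.card := by rw [Finset.card_sdiff_of_subset hs, h6 b hb]
    have hs6 : s.card ≤ 6 := (Finset.card_le_card hs).trans_eq (h6 b hb)
    by_cases h6s : s.card = 6
    · have hsb : s = b := Finset.eq_of_subset_of_card_le hs (by rw [h6 b hb, h6s])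
      rw [h6s, show meetNum 6 = 1 from rfl, Finset.card_eq_one]
      refine ⟨b, ?_⟩
      ext c
      simp only [exactly, Finset.mem_filter, Finset.mem_singleton]
      refine ⟨fun ⟨hc, he⟩ => ?_, fun e => by subst e; exact ⟨hb, by rw [Finset.inter_self, hsb]⟩⟩
      rw [hsb] at he
      exact (Finset.eq_of_subset_of_card_le (Finset.inter_eq_left.1 he) (by rw [h6 c hc, h6 b hb])).symm
    have hsum : (through Bf s).card =
        (exactly Bf b s).card + ∑ v ∈ ((b \ s).powerset.erase ∅), meetNum (s.card + v.card) := by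
      rw [through_eq_sum hs, ← Finset.add_sum_erase _ _ (Finset.empty_mem_powerset _), Finset.union_empty]
      refine congrArg _ (Finset.sum_congr rfl fun v hv => ?_)
      obtain ⟨hne, hv⟩ := Finset.mem_erase.1 hv
      rw [Finset.mem_powerset] at hv
      have hd : Disjoint s v := (Finset.disjoint_of_subset_left hv Finset.sdiff_disjoint).symm
      have hsv : s ∪ v ⊆ b := Finset.union_subset hs (hv.trans Finset.sdiff_subset)
      have hcard : (s ∪ v).card = s.card + v.card := Finset.card_union_of_disjoint hd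
      have hpos : 0 < v.card := Finset.card_pos.2 (Finset.nonempty_iff_ne_empty.2 hne)
      rw [ih _ ?_ (s ∪ v) hsv rfl, hcard]
      rw [← hk, Finset.card_sdiff_of_subset hsv, Finset.card_sdiff_of_subset hs, hcard]
      have := Finset.card_le_card hsv
      rw [hcard] at this
      omega
    have hsum2 : ∑ v ∈ (b \ s).powerset, meetNum (s.card + v.card) =
        ∑ m ∈ range ((b \ s).card + 1), Nat.choose (b \ s).card m * meetNum (s.card + m) := by
      rw [Finset.sum_powerset_apply_card (fun m => meetNum (s.card + m))]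
      simp [smul_eq_mul]
    rw [← Finset.add_sum_erase _ _ (Finset.empty_mem_powerset _), Finset.card_empty, add_zero] at hsum2
    have hl := card_through hα h6 h5 (5 - s.card) s (by omega)
    rw [hl] at hsum
    rw [hbs] at hsum2
    generalize (∑ v ∈ ((b \ s).powerset.erase ∅), meetNum (s.card + v.card)) = S at hsum hsum2
    obtain hc | hc | hc | hc | hc | hc : s.card = 0 ∨ s.card = 1 ∨ s.card = 2 ∨ s.card = 3 ∨ s.card = 4 ∨
        s.card = 5 := by omega
    all_goals
      rw [hc] at hsum hsum2 ⊢
      norm_num [Finset.sum_range_succ, meetNum, lam, Nat.choose, -Finset.card_eq_zero] at hsum hsum2 ⊢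
      omega

theorem intersections (hα : Fintype.card α = 12) {B : Set (Finset α)} (hB : Cfsg.IsSteinerSystem 5 6 B)
    (b : Finset α) (hb : b ∈ B) :
    (∀ c ∈ B, c ≠ b → (b ∩ c).card = 0 ∨ (b ∩ c).card = 2 ∨ (b ∩ c).card = 3 ∨ (b ∩ c).card = 4) ∧
      ∀ s ⊆ b, {c : Finset α | c ∈ B ∧ b ∩ c = s}.ncard = meetNum s.card := by
  classical
  set Bf := (Finset.univ : Finset (Finset α)).filter fun c => c ∈ B with hBf
  have hmem : ∀ c, c ∈ Bf ↔ c ∈ B := fun c => by simp [hBf]
  have h6 : ∀ c ∈ Bf, c.card = 6 := fun c hc => hB.1 c ((hmem c).1 hc)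
  have h5 : ∀ s : Finset α, s.card = 5 → (through Bf s).card = 1 := fun s hs => by
    obtain ⟨c, hc, hu⟩ := hB.2 s hs
    rw [Finset.card_eq_one]
    refine ⟨c, Finset.ext fun d => ?_⟩
    rw [through, Finset.mem_filter, hmem, Finset.mem_singleton]
    exact ⟨fun h => hu d h, fun e => e ▸ hc⟩
  have hN : ∀ s ⊆ b, (exactly Bf b s).card = meetNum s.card := fun s hs =>
    card_exactly hα h6 h5 ((hmem b).2 hb) _ s hs rfl
  refine ⟨fun c hc hne => ?_, fun s hs => ?_⟩
  · have hpos : 0 < meetNum (b ∩ c).card := by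
      rw [← hN _ Finset.inter_subset_left]
      exact Finset.card_pos.2 ⟨c, Finset.mem_filter.2 ⟨(hmem c).2 hc, rfl⟩⟩
    have hle := Finset.card_le_card (Finset.inter_subset_left : b ∩ c ⊆ b)
    rw [hB.1 b hb] at hle
    have h66 : (b ∩ c).card ≠ 6 := fun e => hne (by
      have h1 : b ∩ c = b := Finset.eq_of_subset_of_card_le Finset.inter_subset_left (by rw [hB.1 b hb, e])
      exact (Finset.eq_of_subset_of_card_le (Finset.inter_eq_left.1 h1) (by rw [hB.1 b hb, hB.1 c hc])).symm)
    generalize (b ∩ c).card = n at hpos hle h66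
    interval_cases n <;> simp_all [meetNum]
  · rw [← hN s hs, ← Set.ncard_coe_finset]
    congr 1
    ext x
    simp [exactly, hmem]

end CfsgLib.Ternary
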